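import Groth.Agent.LcCech80.Cone
import Groth.Agent.LC.ExtCechZero
import Mathlib.Algebra.Homology.HomotopyCategory.Pretriangulated
import Mathlib.Algebra.Colimit.Module

/-!
# The system of Koszul complexes of the powers: transitions, cycles, cones
-/

set_option autoImplicit false
set_option linter.style.haveILetI false

universe u

open CategoryTheory CategoryTheory.Limits CochainComplex CochainComplex.HomComplex

noncomputable section

namespace Groth.Agent.LcCech80

variable {A : Type u} [CommRing A]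

local notation "P(" fs ", " n ")" => List.map (· ^ n) fs
local notation "K(" fs ", " M ")" => CohIII.koszulCx M fs

section Classes

/-- Cycles as a kernel. -/
def cycEquiv (K : CochainComplex (ModuleCat.{u} A) ℤ) (q q' : ℤ) (h : q + 1 = q') : K.cycles q ≃ₗ[A] LinearMap.ker (K.d q q').hom := by
  have hinj : Function.Injective (K.iCycles q).hom := (ModuleCat.mono_iff_injective _).1 inferInstance
  have hex : Function.Exact (K.iCycles q).hom (K.d q q').hom :=
    (ShortComplex.ShortExact.moduleCat_exact_iff_function_exact (ShortComplex.mk _ _ (K.iCycles_d q q'))).1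
      (ShortComplex.exact_of_f_is_kernel _ (K.cyclesIsKernel q q' (by simpa using h)))
  exact (LinearEquiv.ofInjective _ hinj).trans (LinearEquiv.ofEq _ _ hex.linearMap_ker_eq.symm)

theorem cycEquiv_val (K : CochainComplex (ModuleCat.{u} A) ℤ) (q q' : ℤ) (h : q + 1 = q') (z : K.cycles q) :
    (cycEquiv K q q' h z : K.X q) = (K.iCycles q).hom z := rfl

/-- The class of a cycle. -/
def clsOf (K : CochainComplex (ModuleCat.{u} A) ℤ) (q q' : ℤ) (h : q + 1 = q') : LinearMap.ker (K.d q q').hom →ₗ[A] K.homology q :=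
  (K.homologyπ q).hom ∘ₗ (cycEquiv K q q' h).symm.toLinearMap

theorem clsOf_surjective (K : CochainComplex (ModuleCat.{u} A) ℤ) (q q' : ℤ) (h : q + 1 = q') : Function.Surjective (clsOf K q q' h) :=
  ((ModuleCat.epi_iff_surjective (K.homologyπ q)).1 inferInstance).comp (cycEquiv K q q' h).symm.surjective

theorem clsOf_eq_zero_iff (K : CochainComplex (ModuleCat.{u} A) ℤ) (p q q' : ℤ) (hp : p + 1 = q) (h : q + 1 = q')
    (z : LinearMap.ker (K.d q q').hom) :
    clsOf K q q' h z = 0 ↔ ∃ y, (K.d p q).hom y = (z : K.X q) := by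
  have hex : Function.Exact (K.toCycles p q).hom (K.homologyπ q).hom :=
    (ShortComplex.ShortExact.moduleCat_exact_iff_function_exact (ShortComplex.mk _ _ (K.toCycles_comp_homologyπ p q))).1
      (ShortComplex.exact_of_g_is_cokernel _ (K.homologyIsCokernel p q (by simp; omega)))
  show (K.homologyπ q).hom ((cycEquiv K q q' h).symm z) = 0 ↔ _
  rw [hex]
  refine exists_congr fun y => ?_
  rw [LinearEquiv.eq_symm_apply, Subtype.ext_iff, cycEquiv_val]
  rw [show (K.iCycles q).hom ((K.toCycles p q).hom y) = _ from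
    ConcreteCategory.congr_hom (K.toCycles_i p q) y]

theorem map_cycle {K L : CochainComplex (ModuleCat.{u} A) ℤ} (φ : K ⟶ L) (q q' : ℤ) (z : LinearMap.ker (K.d q q').hom) :
    (φ.f q).hom (z : K.X q) ∈ LinearMap.ker (L.d q q').hom := by
  rw [LinearMap.mem_ker]
  refine (ConcreteCategory.congr_hom (φ.comm q q') (z : K.X q)).trans ?_
  exact (congrArg (φ.f q').hom (LinearMap.mem_ker.1 z.2)).trans (map_zero _)

theorem clsOf_natural {K L : CochainComplex (ModuleCat.{u} A) ℤ} (φ : K ⟶ L) (q q' : ℤ) (h : q + 1 = q') (z : LinearMap.ker (K.d q q').hom) :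
    (HomologicalComplex.homologyMap φ q).hom (clsOf K q q' h z) = clsOf L q q' h ⟨_, map_cycle φ q q' z⟩ := by
  show (HomologicalComplex.homologyMap φ q).hom ((K.homologyπ q).hom ((cycEquiv K q q' h).symm z)) =
    (L.homologyπ q).hom ((cycEquiv L q q' h).symm ⟨_, map_cycle φ q q' z⟩)
  refine (ConcreteCategory.congr_hom (HomologicalComplex.homologyπ_naturality φ q) _).trans ?_
  refine congrArg (L.homologyπ q).hom ((LinearEquiv.eq_symm_apply _).2 (Subtype.ext ?_))
  rw [cycEquiv_val]
  refine (ConcreteCategory.congr_hom (HomologicalComplex.cyclesMap_i φ q) _).trans ?_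
  show (φ.f q).hom ((K.iCycles q).hom ((cycEquiv K q q' h).symm z)) = _
  rw [← cycEquiv_val K q q' h, LinearEquiv.apply_symm_apply]

end Classes

section Trans

variable (M : ModuleCat.{u} A)

theorem trans_refl (n : ℕ) : ∀ fs : List A, CohIII.koszulTrans M n n le_rfl fs = 𝟙 _
  | [] => rfl
  | f :: fs => by
    show mappingCone.map _ _ _ _ _ = _
    simp only [trans_refl n fs, Nat.sub_self, pow_zero, one_smul]
    exact mappingCone.map_id _

theorem trans_trans {n m k : ℕ} (h : n ≤ m) (h' : m ≤ k) : ∀ fs : List A,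
    CohIII.koszulTrans M n m h fs ≫ CohIII.koszulTrans M m k h' fs = CohIII.koszulTrans M n k (h.trans h') fs
  | [] => Category.id_comp _
  | f :: fs => by
    show mappingCone.map _ _ _ _ _ ≫ mappingCone.map _ _ _ _ _ = mappingCone.map _ _ _ _ _
    rw [← mappingCone.map_comp]
    congr 1
    · exact trans_trans h h' fs
    · rw [Linear.smul_comp, Linear.comp_smul, trans_trans h h' fs, smul_smul, ← pow_add]
      congr 2
      omega

/-- The transition map in a degree, as a linear map. -/
def trX (fs : List A) (q : ℤ) {n m : ℕ} (h : n ≤ m) :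
    K(P(fs, n), M).X q →ₗ[A] K(P(fs, m), M).X q :=
  ((CohIII.koszulTrans M n m h fs).f q).hom

theorem trX_trX (fs : List A) (q : ℤ) {n m k : ℕ} (h : n ≤ m) (h' : m ≤ k) (z : K(P(fs, n), M).X q) :
    trX M fs q h' (trX M fs q h z) = trX M fs q (h.trans h') z :=
  ConcreteCategory.congr_hom (congrArg (fun φ => φ.f q) (trans_trans M h h' fs)) z

theorem trX_d (fs : List A) (q q' : ℤ) {n m : ℕ} (h : n ≤ m) (z : K(P(fs, n), M).X q) :
    trX M fs q' h (K(P(fs, n), M).d q q' z) = K(P(fs, m), M).d q q' (trX M fs q h z) :=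
  (ConcreteCategory.congr_hom ((CohIII.koszulTrans M n m h fs).comm q q') z).symm

/-- The source component of a cone element. -/
def cfst (f : A) (fs : List A) (n : ℕ) (q q' : ℤ) (h : q + 1 = q') :
    K(P(f :: fs, n), M).X q →ₗ[A] K(P(fs, n), M).X q' :=
  ((mappingCone.fst (f ^ n • 𝟙 K(P(fs, n), M))).1.v q q' h).hom

/-- The target component of a cone element. -/
def csnd (f : A) (fs : List A) (n : ℕ) (q : ℤ) :
    K(P(f :: fs, n), M).X q →ₗ[A] K(P(fs, n), M).X q :=
  ((mappingCone.snd (f ^ n • 𝟙 K(P(fs, n), M))).v q q (add_zero q)).hom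

theorem cone_ext₂ (f : A) (fs : List A) (n : ℕ) (q q' : ℤ) (h : q + 1 = q') {z z' : K(P(f :: fs, n), M).X q}
    (h₁ : cfst M f fs n q q' h z = cfst M f fs n q q' h z') (h₂ : csnd M f fs n q z = csnd M f fs n q z') :
    z = z' := by
  subst h
  exact cone_ext' (f ^ n • 𝟙 K(P(fs, n), M)) h₁ h₂

theorem cone_exists (f : A) (fs : List A) (n : ℕ) (q q' : ℤ) (h : q + 1 = q')
    (x : K(P(fs, n), M).X q') (y : K(P(fs, n), M).X q) :
    ∃ z : K(P(f :: fs, n), M).X q, cfst M f fs n q q' h z = x ∧ csnd M f fs n q z = y := by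
  subst h
  exact exists_cone_elt (f ^ n • 𝟙 K(P(fs, n), M)) q x y

theorem cfst_d (f : A) (fs : List A) (n : ℕ) (i j k : ℤ) (hij : i + 1 = j) (hjk : j + 1 = k)
    (z : K(P(f :: fs, n), M).X i) :
    cfst M f fs n j k hjk (K(P(f :: fs, n), M).d i j z) = -(K(P(fs, n), M).d j k (cfst M f fs n i j hij z)) := by
  exact ConcreteCategory.congr_hom (mappingCone.d_fst_v (f ^ n • 𝟙 K(P(fs, n), M)) i j k hij hjk) z

theorem csnd_d (f : A) (fs : List A) (n : ℕ) (i j : ℤ) (hij : i + 1 = j) (z : K(P(f :: fs, n), M).X i) :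
    csnd M f fs n j (K(P(f :: fs, n), M).d i j z) =
      f ^ n • cfst M f fs n i j hij z + K(P(fs, n), M).d i j (csnd M f fs n i z) :=
  ConcreteCategory.congr_hom (mappingCone.d_snd_v (f ^ n • 𝟙 K(P(fs, n), M)) i j hij) z

theorem cfst_trX (f : A) (fs : List A) {n m : ℕ} (hnm : n ≤ m) (q q' : ℤ) (h : q + 1 = q')
    (z : K(P(f :: fs, n), M).X q) :
    cfst M f fs m q q' h (trX M (f :: fs) q hnm z) = trX M fs q' hnm (cfst M f fs n q q' h z) := by
  subst h
  exact map_fst _ _ _ _ _ q z

theorem csnd_trX (f : A) (fs : List A) {n m : ℕ} (hnm : n ≤ m) (q : ℤ)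
    (z : K(P(f :: fs, n), M).X q) :
    csnd M f fs m q (trX M (f :: fs) q hnm z) = f ^ (m - n) • trX M fs q hnm (csnd M f fs n q z) :=
  map_snd _ _ _ _ _ q z

end Trans

theorem kmap_trans {M N : ModuleCat.{u} A} (g : M ⟶ N) {n m : ℕ} (h : n ≤ m) : ∀ fs : List A,
    CohIII.koszulTrans M n m h fs ≫ Koszul15.kmap g P(fs, m) =
      Koszul15.kmap g P(fs, n) ≫ CohIII.koszulTrans N n m h fs
  | [] => (Category.id_comp _).trans (Category.comp_id _).symm
  | f :: fs => by
    show mappingCone.map _ _ _ _ _ ≫ mappingCone.map _ _ _ _ _ =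
      mappingCone.map _ _ _ _ _ ≫ mappingCone.map _ _ _ _ _
    rw [← mappingCone.map_comp, ← mappingCone.map_comp]
    congr 1
    · exact kmap_trans g h fs
    · rw [Linear.smul_comp, Linear.comp_smul, kmap_trans g h fs]

end Groth.Agent.LcCech80

end
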