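import Groth.Agent.LcCech80.Delta
import Groth.Agent.LcCech80.KoszulBasic
import Mathlib.Algebra.Homology.HomologySequenceLemmas

/-!
# The limit of the Koszul cohomology of the powers as a system
-/

set_option autoImplicit false
set_option linter.style.haveILetI false

universe u

open CategoryTheory CategoryTheory.Limits CochainComplex CochainComplex.HomComplex

noncomputable section

namespace Groth.Agent.LcCech80

variable {A : Type u} [CommRing A]

local notation "P(" fs ", " n ")" => List.map (· ^ n) fs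
local notation "K(" fs ", " M ")" => CohIII.koszulCx M fs

section Lim

variable (fs : List A) (M : ModuleCat.{u} A) (q : ℤ)

/-- The homology of the Koszul complexes of the powers in a degree. -/
abbrev hK (n : ℕ) : Type u := (K(P(fs, n), M).homology q : Type u)

/-- The transition maps on homology. -/
abbrev hT (n m : ℕ) (h : n ≤ m) : hK fs M q n →ₗ[A] hK fs M q m :=
  (HomologicalComplex.homologyMap (CohIII.koszulTrans M n m h fs) q).hom

instance directedSystem_hK : DirectedSystem (hK fs M q) (fun n m h => hT fs M q n m h) where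
  map_self n x := by
    show (HomologicalComplex.homologyMap (CohIII.koszulTrans M n n _ fs) q).hom x = x
    rw [trans_refl M n fs, HomologicalComplex.homologyMap_id]
    rfl
  map_map k j i hij hjk x := by
    show (HomologicalComplex.homologyMap (CohIII.koszulTrans M _ _ hjk fs) q).hom
        ((HomologicalComplex.homologyMap (CohIII.koszulTrans M _ _ hij fs) q).hom x) = _
    refine (ConcreteCategory.congr_hom (HomologicalComplex.homologyMap_comp _ _ q).symm x).trans ?_
    rw [trans_trans]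

/-- The colimit in a degree. -/
abbrev limH : Type u := Module.DirectLimit (hK fs M q) (hT fs M q)

theorem hT_cls {n m : ℕ} (h : n ≤ m) (z : LinearMap.ker (K(P(fs, n), M).d q (q + 1)).hom) :
    hT fs M q n m h (clsOf _ q (q + 1) rfl z) =
      clsOf _ q (q + 1) rfl ⟨trX M fs q h z.1, map_cycle _ q (q + 1) z⟩ :=
  clsOf_natural _ q (q + 1) rfl z

/-- Every class is eventually zero if every cycle is eventually a boundary. -/
theorem subsingleton_limH
    (h : ∀ (n : ℕ) (z : K(P(fs, n), M).X q), K(P(fs, n), M).d q (q + 1) z = 0 →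
      ∃ (m : ℕ) (hm : n ≤ m), ∃ y, K(P(fs, m), M).d (q - 1) q y = trX M fs q hm z) :
    Subsingleton (limH fs M q) := by
  refine subsingleton_of_forall_eq 0 fun x => ?_
  obtain ⟨n, c, rfl⟩ := Module.DirectLimit.exists_of x
  obtain ⟨z, rfl⟩ := clsOf_surjective _ q (q + 1) rfl c
  obtain ⟨m, hm, hy⟩ := h n z.1 (LinearMap.mem_ker.1 z.2)
  rw [← Module.DirectLimit.of_f (hij := hm), hT_cls,
    (clsOf_eq_zero_iff _ (q - 1) q (q + 1) (by omega) rfl _).2 hy, map_zero]

end Lim

section Torsion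

variable (M : ModuleCat.{u} A)

theorem torsion_X (f : A) (hf : ∀ m : M, ∃ k : ℕ, f ^ k • m = 0) (n : ℕ) :
    ∀ (fs : List A) (q : ℤ) (z : K(P(fs, n), M).X q), ∃ k : ℕ, f ^ k • z = 0
  | [], q, z => by
    by_cases hq : q = 0
    · subst hq
      let e : K(P(([] : List A), n), M).X 0 ≃ₗ[A] M :=
        (HomologicalComplex.singleObjXSelf (ComplexShape.up ℤ) 0 M).toLinearEquiv
      obtain ⟨k, hk⟩ := hf (e z)
      exact ⟨k, e.injective ((map_smul e _ _).trans (hk.trans (map_zero e).symm))⟩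
    · haveI : Subsingleton (K(P(([] : List A), n), M).X q) := ModuleCat.subsingleton_of_isZero
        (HomologicalComplex.isZero_single_obj_X (ComplexShape.up ℤ) 0 M q hq)
      exact ⟨0, Subsingleton.elim _ _⟩
  | g :: fs, q, z => by
    obtain ⟨a, ha⟩ := torsion_X f hf n fs (q + 1) (cfst M g fs n q (q + 1) rfl z)
    obtain ⟨b, hb⟩ := torsion_X f hf n fs q (csnd M g fs n q z)
    refine ⟨a + b, cone_ext₂ M g fs n q (q + 1) rfl ?_ ?_⟩
    · rw [map_smul, map_zero, pow_add, mul_comm, mul_smul, ha, smul_zero]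
    · rw [map_smul, map_zero, pow_add, mul_smul, hb, smul_zero]

theorem exists_boundary_of_isTors : ∀ (fs : List A), IsTors fs M → ∀ (p q q' : ℤ), p + 1 = q → q + 1 = q' →
    -(fs.length : ℤ) < q → ∀ (n : ℕ) (z : K(P(fs, n), M).X q), K(P(fs, n), M).d q q' z = 0 →
      ∃ (m : ℕ) (hm : n ≤ m), ∃ y, K(P(fs, m), M).d p q y = trX M fs q hm z
  | [], _, p, q, q', _, _, hlen, n, z, _ => by
    haveI : Subsingleton (K(P(([] : List A), n), M).X q) := ModuleCat.subsingleton_of_isZero
      (HomologicalComplex.isZero_single_obj_X (ComplexShape.up ℤ) 0 M q (by simp at hlen; omega))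
    exact ⟨n, le_rfl, 0, by rw [map_zero, Subsingleton.elim z 0, map_zero]⟩
  | f :: fs, hM, p, q, q', hp, hq', hlen, n, z, hz => by
    simp only [List.length_cons, Nat.cast_add, Nat.cast_one] at hlen
    have hx : K(P(fs, n), M).d q' (q' + 1) (cfst M f fs n q q' hq' z) = 0 := by
      have := cfst_d M f fs n q q' (q' + 1) hq' rfl z
      rw [hz, map_zero] at this
      exact neg_eq_zero.1 this.symm
    obtain ⟨m, hnm, w, hw⟩ := exists_boundary_of_isTors fs (fun m g hg => hM m g (List.mem_cons_of_mem f hg))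
      q q' (q' + 1) hq' rfl (by omega) n _ hx
    obtain ⟨c, hc₁, hc₂⟩ := cone_exists M f fs m p q hp w 0
    let z₁ := trX M (f :: fs) q hnm z + K(P(f :: fs, m), M).d p q c
    have h₁ : cfst M f fs m q q' hq' z₁ = 0 := by
      rw [map_add, cfst_trX, cfst_d M f fs m p q q' hp hq' c, hc₁, hw, add_neg_cancel]
    obtain ⟨k, hk⟩ := torsion_X M f (fun v => hM v f List.mem_cons_self) m fs q (csnd M f fs m q z₁)
    have h₂ : trX M (f :: fs) q (Nat.le_add_right m k) z₁ = 0 := by
      refine cone_ext₂ M f fs (m + k) q q' hq' ?_ ?_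
      · rw [cfst_trX, h₁, map_zero, map_zero]
      · rw [csnd_trX, Nat.add_sub_cancel_left, ← map_smul, hk, map_zero, map_zero]
    refine ⟨m + k, hnm.trans (Nat.le_add_right m k), -trX M (f :: fs) p (Nat.le_add_right m k) c, ?_⟩
    rw [map_neg, ← trX_d, ← trX_trX M (f :: fs) q hnm (Nat.le_add_right m k), neg_eq_iff_add_eq_zero]
    exact (add_comm _ _).trans ((map_add _ _ _).symm.trans h₂)

end Torsion

section Unit

variable (M : ModuleCat.{u} A)

theorem bijective_smul_X (f : A) (hf : Function.Bijective fun m : M => f • m) :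
    ∀ (fs : List A) (q : ℤ), Function.Bijective fun z : K(fs, M).X q => f • z := by
  intro fs q
  haveI : IsIso (f • 𝟙 M) := (ConcreteCategory.isIso_iff_bijective _).2 hf
  haveI : IsIso (f • 𝟙 K(fs, M)) := by
    have hc : ∀ {P Q R : ModuleCat.{u} A} (a : P ⟶ Q) (b : Q ⟶ R) (gs : List A),
        Koszul15.kmap a gs ≫ Koszul15.kmap b gs = Koszul15.kmap (a ≫ b) gs := by
      intro P Q R a b gs
      induction gs with
      | nil => exact ((HomologicalComplex.single _ _ 0).map_comp a b).symm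
      | cons g gs ih =>
        show mappingCone.map _ _ _ _ _ ≫ mappingCone.map _ _ _ _ _ = mappingCone.map _ _ _ _ _
        rw [← mappingCone.map_comp]
        congr 1
    have h1 : Koszul15.kmap (𝟙 M) fs = 𝟙 K(fs, M) := by
      rw [← one_smul A (𝟙 M), Koszul15.kmap_smul, one_smul]
    rw [← Koszul15.kmap_smul f fs]
    exact ⟨Koszul15.kmap (inv (f • 𝟙 M)) fs, by rw [hc, IsIso.hom_inv_id, h1], by rw [hc, IsIso.inv_hom_id, h1]⟩
  haveI : IsIso ((f • 𝟙 K(fs, M)).f q) :=
    inferInstanceAs (IsIso ((HomologicalComplex.eval (ModuleCat.{u} A) (ComplexShape.up ℤ) q).map (f • 𝟙 K(fs, M))))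
  exact (ConcreteCategory.isIso_iff_bijective ((f • 𝟙 K(fs, M)).f q)).1 inferInstance

theorem exists_boundary_of_unit (f : A) (fs : List A) (hfs : f ∈ fs)
    (hf : Function.Bijective fun m : M => f • m) (q : ℤ) (n : ℕ) (z : K(P(fs, n), M).X q)
    (hz : K(P(fs, n), M).d q (q + 1) z = 0) :
    ∃ (m : ℕ) (hm : n ≤ m), ∃ y, K(P(fs, m), M).d (q - 1) q y = trX M fs q hm z := by
  refine ⟨n + 1, Nat.le_succ n, ?_⟩
  obtain ⟨H⟩ := Koszul15.homotopy_of_mem M P(fs, n + 1) (f ^ (n + 1))
    (Ideal.subset_span (List.mem_map.2 ⟨f, hfs, rfl⟩))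
  have hpow : ∀ (r : ℤ) (k : ℕ), Function.Bijective fun w : K(P(fs, n + 1), M).X r => f ^ k • w := fun r k => by
    induction k with
    | zero => simp only [pow_zero, one_smul]; exact Function.bijective_id
    | succ k ih =>
      simpa [pow_succ, mul_smul, Function.comp_def] using
        Function.Bijective.comp (g := fun w : K(P(fs, n + 1), M).X r => f ^ k • w) ih
          (bijective_smul_X M f hf P(fs, n + 1) r)
  have hb := fun r => hpow r (n + 1)
  obtain ⟨w, hw'⟩ := (hb q).2 (trX M fs q (Nat.le_succ n) z)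
  have hw : f ^ (n + 1) • w = trX M fs q (Nat.le_succ n) z := hw'
  have hwd : K(P(fs, n + 1), M).d q (q + 1) w = 0 := (hb (q + 1)).1 (by
    show f ^ (n + 1) • _ = f ^ (n + 1) • (0 : K(P(fs, n + 1), M).X (q + 1))
    rw [← map_smul, hw, ← trX_d, hz, map_zero, smul_zero])
  have h := ConcreteCategory.congr_hom (H.comm q) w
  rw [dNext_eq H.hom (show (ComplexShape.up ℤ).Rel q (q + 1) by simp),
    prevD_eq H.hom (show (ComplexShape.up ℤ).Rel (q - 1) q by simp)] at h
  refine ⟨(H.hom q (q - 1)).hom w, ?_⟩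
  have h' : f ^ (n + 1) • w = (H.hom (q + 1) q).hom (K(P(fs, n + 1), M).d q (q + 1) w) +
      K(P(fs, n + 1), M).d (q - 1) q ((H.hom q (q - 1)).hom w) := by
    refine h.trans ?_
    show _ + (0 : K(P(fs, n + 1), M).X q) = _
    rw [add_zero]
    rfl
  rw [hwd, map_zero, zero_add] at h'
  exact h'.symm.trans hw

end Unit

section Bottom

variable (M : ModuleCat.{u} A)

theorem exists_bot : ∀ (fs : List A) (q q' : ℤ), q = -(fs.length : ℤ) → q + 1 = q' →
    ∃ e : ∀ n : ℕ, K(P(fs, n), M).X q ≃ₗ[A] M,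
      (∀ n z, K(P(fs, n), M).d q q' z = 0 ↔ ∀ f ∈ fs, f ^ n • e n z = 0) ∧
      ∀ n m (h : n ≤ m) z, e m (trX M fs q h z) = e n z
  | [], q, q', hq, hq' => by
    have hq0 : q = 0 := by simpa using hq
    subst hq0
    refine ⟨fun n => (HomologicalComplex.singleObjXSelf (ComplexShape.up ℤ) 0 M).toLinearEquiv, fun n z => ?_,
      fun n m h z => rfl⟩
    refine ⟨fun _ f hf => absurd hf List.not_mem_nil, fun _ => ?_⟩
    haveI : Subsingleton (K(P(([] : List A), n), M).X q') := ModuleCat.subsingleton_of_isZero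
      (HomologicalComplex.isZero_single_obj_X (ComplexShape.up ℤ) 0 M q' (by omega))
    exact Subsingleton.elim _ _
  | f :: fs, q, q', hq, hq' => by
    simp only [List.length_cons, Nat.cast_add, Nat.cast_one] at hq
    obtain ⟨e, he, hec⟩ := exists_bot fs q' (q' + 1) (by omega) rfl
    have h0 : ∀ n, Subsingleton (K(P(fs, n), M).X q) := fun n => ModuleCat.subsingleton_of_isZero
      (Koszul15.isZero_X M P(fs, n) q (Or.inr (by rw [List.length_map]; omega)))
    have hb : ∀ n, Function.Bijective (cfst M f fs n q q' hq') := fun n =>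
      ⟨fun a b hab => cone_ext₂ M f fs n q q' hq' hab (@Subsingleton.elim _ (h0 n) _ _),
        fun x => (cone_exists M f fs n q q' hq' x 0).imp fun _ h => h.1⟩
    refine ⟨fun n => (LinearEquiv.ofBijective _ (hb n)).trans (e n), fun n z => ?_, fun n m h z => ?_⟩
    · show K(P(f :: fs, n), M).d q q' z = 0 ↔ ∀ g ∈ f :: fs, g ^ n • e n (cfst M f fs n q q' hq' z) = 0
      rw [List.forall_mem_cons, ← he n, ← map_smul, LinearEquiv.map_eq_zero_iff]
      constructor
      · intro hd
        refine ⟨?_, ?_⟩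
        · have := csnd_d M f fs n q q' hq' z
          rw [hd, map_zero, @Subsingleton.elim _ (h0 n) (csnd M f fs n q z) 0, map_zero, add_zero] at this
          exact this.symm
        · have := cfst_d M f fs n q q' (q' + 1) hq' rfl z
          rw [hd, map_zero] at this
          exact neg_eq_zero.1 this.symm
      · rintro ⟨h₁, h₂⟩
        refine cone_ext₂ M f fs n q' (q' + 1) rfl ?_ ?_
        · rw [cfst_d M f fs n q q' (q' + 1) hq' rfl, h₂, neg_zero, map_zero]
        · rw [csnd_d M f fs n q q' hq', h₁, @Subsingleton.elim _ (h0 n) (csnd M f fs n q z) 0, map_zero,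
            add_zero, map_zero]
    · show e m (cfst M f fs m q q' hq' (trX M (f :: fs) q h z)) = e n (cfst M f fs n q q' hq' z)
      rw [cfst_trX, hec]

theorem nonempty_limH_bot (fs : List A) (q : ℤ) (hq : q = -(fs.length : ℤ)) :
    Nonempty (limH fs M q ≃ₗ[A] DRing.torsionSub (lspan fs) M) := by
  obtain ⟨e, he, hec⟩ := exists_bot M fs q (q + 1) hq rfl
  let g : ∀ n, LinearMap.ker (K(P(fs, n), M).d q (q + 1)).hom →ₗ[A] DRing.torsionSub (lspan fs) M := fun n =>
    LinearMap.codRestrict _ ((e n).toLinearMap ∘ₗ Submodule.subtype _) fun z =>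
      (LC.ExtCech.mem_torsionSub_span_iff fs _).2 fun f hf =>
        ⟨n, (he n z.1).1 (LinearMap.mem_ker.1 z.2) f hf⟩
  have hb : ∀ n, Function.Bijective (clsOf K(P(fs, n), M) q (q + 1) rfl) := fun n => by
    refine ⟨?_, clsOf_surjective _ q (q + 1) rfl⟩
    rw [← LinearMap.ker_eq_bot, LinearMap.ker_eq_bot']
    intro z hz
    obtain ⟨y, hy⟩ := (clsOf_eq_zero_iff _ (q - 1) q (q + 1) (by omega) rfl z).1 hz
    haveI : Subsingleton (K(P(fs, n), M).X (q - 1)) := ModuleCat.subsingleton_of_isZero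
      (Koszul15.isZero_X M P(fs, n) (q - 1) (Or.inr (by rw [List.length_map]; omega)))
    exact Subtype.ext (hy.symm.trans ((congrArg _ (Subsingleton.elim y 0)).trans (map_zero _)))
  let c := fun n => LinearEquiv.ofBijective _ (hb n)
  let G : ∀ n, hK fs M q n →ₗ[A] DRing.torsionSub (lspan fs) M := fun n => g n ∘ₗ (c n).symm.toLinearMap
  have hG : ∀ (n : ℕ) z, G n (clsOf K(P(fs, n), M) q (q + 1) rfl z) = g n z := fun n z =>
    congrArg (g n) ((c n).symm_apply_apply z)
  have hcompat : ∀ n m (h : n ≤ m) x, G m (hT fs M q n m h x) = G n x := fun n m h x => by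
    obtain ⟨z, rfl⟩ := clsOf_surjective _ q (q + 1) rfl x
    rw [hT_cls, hG, hG]
    exact Subtype.ext (hec n m h z.1)
  let L : limH fs M q →ₗ[A] DRing.torsionSub (lspan fs) M := Module.DirectLimit.lift A ℕ _ _ G hcompat
  refine ⟨LinearEquiv.ofBijective L ⟨Module.DirectLimit.lift_injective G hcompat fun n => ?_, fun t => ?_⟩⟩
  · show Function.Injective (g n ∘ (c n).symm)
    refine Function.Injective.comp ?_ (c n).symm.injective
    intro a b hab
    exact Subtype.ext ((e n).injective (congrArg Subtype.val hab))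
  · obtain ⟨N, hN⟩ := t.2
    let z : LinearMap.ker (K(P(fs, N), M).d q (q + 1)).hom :=
      ⟨(e N).symm t.1, LinearMap.mem_ker.2 ((he N _).2 fun f hf => by
        rw [LinearEquiv.apply_symm_apply]
        exact hN _ (Ideal.pow_mem_pow (Ideal.subset_span (show f ∈ {x : A | x ∈ fs} from hf)) N))⟩
    refine ⟨Module.DirectLimit.of A ℕ _ _ N (clsOf _ q (q + 1) rfl z), ?_⟩
    rw [Module.DirectLimit.lift_of, hG]
    exact Subtype.ext ((e N).apply_symm_apply t.1)

end Bottom

section Seq

theorem exact_dlMap {G₁ G₂ G₃ : ℕ → Type u} [∀ i, AddCommGroup (G₁ i)] [∀ i, Module A (G₁ i)]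
    [∀ i, AddCommGroup (G₂ i)] [∀ i, Module A (G₂ i)] [∀ i, AddCommGroup (G₃ i)] [∀ i, Module A (G₃ i)]
    {f₁ : ∀ i j, i ≤ j → G₁ i →ₗ[A] G₁ j} {f₂ : ∀ i j, i ≤ j → G₂ i →ₗ[A] G₂ j}
    {f₃ : ∀ i j, i ≤ j → G₃ i →ₗ[A] G₃ j} [DirectedSystem G₂ fun i j h => f₂ i j h]
    [DirectedSystem G₃ fun i j h => f₃ i j h]
    (a : ∀ i, G₁ i →ₗ[A] G₂ i) (ha : ∀ i j h, a j ∘ₗ f₁ i j h = f₂ i j h ∘ₗ a i)
    (b : ∀ i, G₂ i →ₗ[A] G₃ i) (hb : ∀ i j h, b j ∘ₗ f₂ i j h = f₃ i j h ∘ₗ b i)
    (hex : ∀ i, Function.Exact (a i) (b i)) :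
    Function.Exact (Module.DirectLimit.map a ha) (Module.DirectLimit.map b hb) := by
  intro x
  obtain ⟨i, x, rfl⟩ := Module.DirectLimit.exists_of x
  rw [Module.DirectLimit.map_apply_of]
  constructor
  · intro hx
    obtain ⟨j, hij, hj⟩ := Module.DirectLimit.of.zero_exact hx
    rw [← LinearMap.comp_apply, ← hb, LinearMap.comp_apply] at hj
    obtain ⟨y, hy⟩ := (hex j _).1 hj
    exact ⟨Module.DirectLimit.of A ℕ G₁ f₁ j y, by
      rw [Module.DirectLimit.map_apply_of, hy, Module.DirectLimit.of_f]⟩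
  · rintro ⟨y, hy⟩
    obtain ⟨j, y, rfl⟩ := Module.DirectLimit.exists_of y
    rw [Module.DirectLimit.map_apply_of] at hy
    obtain ⟨k, hjk, hik, hk⟩ : ∃ k, ∃ (hjk : j ≤ k) (hik : i ≤ k), f₂ j k hjk (a j y) = f₂ i k hik x := by
      let l := max i j
      have hl : Module.DirectLimit.of A ℕ G₂ f₂ l (f₂ j l (le_max_right i j) (a j y)) =
          Module.DirectLimit.of A ℕ G₂ f₂ l (f₂ i l (le_max_left i j) x) := by
        rw [Module.DirectLimit.of_f, Module.DirectLimit.of_f, hy]
      obtain ⟨k, hlk, hk⟩ := Module.DirectLimit.exists_eq_of_of_eq hl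
      exact ⟨k, (le_max_right i j).trans hlk, (le_max_left i j).trans hlk, by
        rwa [DirectedSystem.map_map (f := fun i j h => f₂ i j h),
          DirectedSystem.map_map (f := fun i j h => f₂ i j h)] at hk⟩
    rw [← Module.DirectLimit.of_f (f := f₃) (hij := hik), ← LinearMap.comp_apply (f₃ i k hik), ← hb,
      LinearMap.comp_apply, ← hk, ← LinearMap.comp_apply (f₂ j k hjk), ← ha, LinearMap.comp_apply,
      (hex k).apply_apply_eq_zero, map_zero]

/-- The colimit as an object. -/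
abbrev limObj (fs : List A) (i : ℕ) (M : ModuleCat.{u} A) : ModuleCat.{u} A :=
  ModuleCat.of A (limH fs M ((i : ℤ) - fs.length))

theorem exact_limObj {X Y Z : ModuleCat.{u} A} {u : X ⟶ Y} {v : Y ⟶ Z} (h : Function.Exact u.hom v.hom) :
    ∃ w : u ≫ v = 0, (ShortComplex.mk u v w).Exact :=
  ⟨ModuleCat.hom_ext (LinearMap.ext fun x => h.apply_apply_eq_zero x),
    (ShortComplex.ShortExact.moduleCat_exact_iff_function_exact _).mpr h⟩

theorem hasSeq_koszul (fs : List A) : HasSeq (limObj fs) := by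
  intro S hS
  choose wK hK' using fun n : ℕ => Koszul15.kmap_shortExact S.f S.g S.zero hS P(fs, n)
  let T : ℕ → ShortComplex (CochainComplex (ModuleCat.{u} A) ℤ) := fun n => ShortComplex.mk _ _ (wK n)
  let φ : ∀ n m, n ≤ m → (T n ⟶ T m) := fun n m h =>
    { τ₁ := CohIII.koszulTrans S.X₁ n m h fs
      τ₂ := CohIII.koszulTrans S.X₂ n m h fs
      τ₃ := CohIII.koszulTrans S.X₃ n m h fs
      comm₁₂ := kmap_trans S.f h fs
      comm₂₃ := kmap_trans S.g h fs }
  let c : ℕ → ℤ := fun i => (i : ℤ) - fs.length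
  have hc : ∀ i, c i + 1 = c (i + 1) := fun i => by simp only [c]; push_cast; ring
  let aL : ∀ i n, hK fs S.X₁ (c i) n →ₗ[A] hK fs S.X₂ (c i) n := fun i n =>
    (HomologicalComplex.homologyMap (T n).f (c i)).hom
  let bL : ∀ i n, hK fs S.X₂ (c i) n →ₗ[A] hK fs S.X₃ (c i) n := fun i n =>
    (HomologicalComplex.homologyMap (T n).g (c i)).hom
  let dL : ∀ i n, hK fs S.X₃ (c i) n →ₗ[A] hK fs S.X₁ (c (i + 1)) n := fun i n =>
    ((hK' n).δ (c i) (c (i + 1)) (hc i)).hom
  have ha : ∀ i n m h, aL i m ∘ₗ hT fs S.X₁ (c i) n m h = hT fs S.X₂ (c i) n m h ∘ₗ aL i n := fun i n m h => by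
    have e : HomologicalComplex.homologyMap (φ n m h).τ₁ (c i) ≫ HomologicalComplex.homologyMap (T m).f (c i) =
        HomologicalComplex.homologyMap (T n).f (c i) ≫ HomologicalComplex.homologyMap (φ n m h).τ₂ (c i) := by
      rw [← HomologicalComplex.homologyMap_comp, ← HomologicalComplex.homologyMap_comp, (φ n m h).comm₁₂]
    exact congrArg ModuleCat.Hom.hom e
  have hb : ∀ i n m h, bL i m ∘ₗ hT fs S.X₂ (c i) n m h = hT fs S.X₃ (c i) n m h ∘ₗ bL i n := fun i n m h => by
    have e : HomologicalComplex.homologyMap (φ n m h).τ₂ (c i) ≫ HomologicalComplex.homologyMap (T m).g (c i) =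
        HomologicalComplex.homologyMap (T n).g (c i) ≫ HomologicalComplex.homologyMap (φ n m h).τ₃ (c i) := by
      rw [← HomologicalComplex.homologyMap_comp, ← HomologicalComplex.homologyMap_comp, (φ n m h).comm₂₃]
    exact congrArg ModuleCat.Hom.hom e
  have hd : ∀ i n m h, dL i m ∘ₗ hT fs S.X₃ (c i) n m h = hT fs S.X₁ (c (i + 1)) n m h ∘ₗ dL i n :=
    fun i n m h => (congrArg ModuleCat.Hom.hom
      (HomologicalComplex.HomologySequence.δ_naturality (φ n m h) (hK' n) (hK' m) (c i) (c (i + 1)) (hc i))).symm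
  let a : ∀ i, limObj fs i S.X₁ ⟶ limObj fs i S.X₂ := fun i =>
    ModuleCat.ofHom (Module.DirectLimit.map (aL i) (ha i))
  let b : ∀ i, limObj fs i S.X₂ ⟶ limObj fs i S.X₃ := fun i =>
    ModuleCat.ofHom (Module.DirectLimit.map (bL i) (hb i))
  let δ : ∀ i, limObj fs i S.X₃ ⟶ limObj fs (i + 1) S.X₁ := fun i =>
    ModuleCat.ofHom (Module.DirectLimit.map (dL i) (hd i))
  choose w₂ h₂ using fun i => exact_limObj (u := a i) (v := b i) (exact_dlMap (aL i) (ha i) (bL i) (hb i) fun n =>
    (ShortComplex.ShortExact.moduleCat_exact_iff_function_exact _).1 ((hK' n).homology_exact₂ (c i)))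
  choose w₃ h₃ using fun i => exact_limObj (u := b i) (v := δ i) (exact_dlMap (bL i) (hb i) (dL i) (hd i) fun n =>
    (ShortComplex.ShortExact.moduleCat_exact_iff_function_exact _).1 ((hK' n).homology_exact₃ (c i) (c (i + 1)) (hc i)))
  choose w₁ h₁ using fun i => exact_limObj (u := δ i) (v := a (i + 1))
    (exact_dlMap (dL i) (hd i) (aL (i + 1)) (ha (i + 1)) fun n =>
    (ShortComplex.ShortExact.moduleCat_exact_iff_function_exact _).1 ((hK' n).homology_exact₁ (c i) (c (i + 1)) (hc i)))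
  exact ⟨a, b, δ, w₂, w₃, w₁, fun i => ⟨h₂ i, h₃ i, h₁ i⟩⟩

/-- The colimit of Koszul cohomology of powers over any ring is a system. -/
theorem sys_koszul (fs : List A) :
    Sys fs (𝟭 _) (fun i M => limObj fs i M) :=
  Sys.mk'
    (fun M => ⟨(nonempty_limH_bot M fs _ (by push_cast; ring)).some.toModuleIso⟩)
    (fun M hM i => by
      haveI := subsingleton_limH fs M (((i + 1 : ℕ) : ℤ) - fs.length) fun n z hz =>
        exists_boundary_of_isTors M fs hM _ _ _ (by ring) rfl (by push_cast; omega) n z hz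
      exact ModuleCat.isZero_of_subsingleton _)
    (fun f hf M hM i => by
      haveI := subsingleton_limH fs M ((i : ℤ) - fs.length) fun n z hz =>
        exists_boundary_of_unit M f fs hf hM _ n z hz
      exact ModuleCat.isZero_of_subsingleton _)
    (hasSeq_koszul fs)

end Seq

end Groth.Agent.LcCech80

end
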