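import Groth.Agent.LcCech80.Koszul
import Groth.Agent.LcCech80.LocCoh

/-!
# The colimit of Koszul cohomology computes local cohomology
-/

set_option autoImplicit false

universe u

open CategoryTheory CategoryTheory.Limits

noncomputable section

namespace Groth.Agent.LcCech80

variable {A : Type u} [CommRing A]

/-- `koszulHLim` is the object of the system. -/
def koszulEquiv (fs : List A) (M : ModuleCat.{u} A) (i : ℕ) :
    CohIII.koszulHLim fs M i ≃ₗ[A] limObj fs i M :=
  LinearEquiv.refl A _

theorem nonempty_H_equiv_koszul [IsNoetherianRing A] (fs : List A) (M : ModuleCat.{u} A) (i : ℕ) :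
    Nonempty (((localCohomology (lspan fs) i).obj M : ModuleCat.{u} A) ≃ₗ[A] CohIII.koszulHLim fs M i) :=
  ⟨((sys_localCohomology fs).unique (sys_koszul fs) i M).some.toLinearEquiv.trans (koszulEquiv fs M i).symm⟩

theorem subsingleton_koszulHLim_of_injective [IsNoetherianRing A] (fs : List A) (M : Type u) [AddCommGroup M]
    [Module A M] (hM : Module.Injective A M) (i : ℕ) (hi : 0 < i) :
    Subsingleton (CohIII.koszulHLim fs (ModuleCat.of A M) i) := by
  obtain ⟨j, rfl⟩ : ∃ j, i = j + 1 := ⟨i - 1, by omega⟩
  haveI : Injective (ModuleCat.of A M) := Module.injective_object_of_injective_module A M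
  haveI := LC.subsingleton_of_injective (lspan fs) (ModuleCat.of A M) j
  exact (nonempty_H_equiv_koszul fs (ModuleCat.of A M) (j + 1)).some.toEquiv.symm.subsingleton

end Groth.Agent.LcCech80

end
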